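import Cfsg.Agent.H961.SepFi23
import Cfsg.Agent.H755.S8.FrobEng

/-!
# Subgroups of `Fi23` of order divisible by 23 (S4908, FROB; helper30)
-/

set_option autoImplicit false
set_option maxRecDepth 100000

namespace Cfsg.Agent.H30.S8.Fi23P

open Cfsg Cfsg.Agent.OrdDiv Cfsg.Agent.H940 Cfsg.Agent.H940.Eng Cfsg.Agent.H940.Eng.D Cfsg.Agent.H755.S8
open Cfsg.Agent.H961.SepFi23 (loc ctx)

theorem chk : chkP l_fi23 n_fi23 23 ⟨23, 23, [(11, 1), (23, 1)]⟩ (chkF 1 n_fi23 loc) [] 40 loc o_fi23 = true := by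
  decide +kernel

theorem le_of_dvd23 (B : Base) {T : Subgroup Spor.Fi23} (hT : T ≠ ⊤) (h : 23 ∣ Nat.card T) :
    Nat.card T * Nat.card (ConjClasses T) ≤ Nat.card Spor.Fi23 := by
  have hfin := Cfsg.Agent.H961.SepFi23.fin
  have h1 := ordersP (ctx B) ⟨23, 23, [(11, 1), (23, 1)]⟩ (by simp [loc]) (chkF 1 n_fi23 loc) [] 40 chk h (by simp) hT
  have h2 := le_of_chkF (ctx B).loc (by simp [loc]) (by simp [loc]) T h1
  rw [one_mul] at h2
  exact h2.trans (Cfsg.Agent.H961.SepFi23.card).ge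

end Cfsg.Agent.H30.S8.Fi23P
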