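import Cfsg.Agent.H30.S8.Fi23A
import Cfsg.Agent.H30.S8.Fi23P
import Cfsg.Agent.H305.S8.Fi23K
import Cfsg.Agent.H546.S8.Tools

/-!
# The row CHIEF (FROB) of S4908 for `Fi23` (helper30)

`Fi23` on an elementary abelian `r`-group `A`, all stabilizers `T` of elements `≠ 0` with `|Fi23| < |T| k(T)`.
No stabilizer has order divisible by 23. For `r` odd the subgroup `2^11 : 23` gives a vector fixed by an element of
order 23, a contradiction; for `r = 2` the group `3^(1+8)` gives the codimension bound `27` for all elements `≠ 1`,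
and the number of the classes is at most 30000000.
-/

set_option autoImplicit false

namespace Cfsg.Agent.H30.S8.Fi23

open Cfsg Cfsg.Spor Cfsg.Agent.H320.SD Cfsg.Agent.LThreeFi23 Cfsg.Agent.H704.S8 Cfsg.Agent.H940.Eng
open Cfsg.Agent.Fischer.Fi23Hom
open Cfsg.Agent.Lib.PermNet

universe u v

/-- `G` is transitive on the ordered pairs of different commuting points -/
theorem pair_trans_com {p q p' q' : ℕ} (hp : p < 31671) (hq : q < 31671) (hp' : p' < 31671) (hq' : q' < 31671)
    (h : Com p q) (hn : p ≠ q) (h' : Com p' q') (hn' : p' ≠ q') : ∃ g : Fi23, rho g p = p' ∧ rho g q = q' := by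
  obtain ⟨R, hR, hR0⟩ := exists_R
  have h1 : ∀ x : Fi23, R.t (x • R.x0) = T (rho x 0) := by
    intro x
    rw [R.map_smul, hR, T_eq (g := x) rfl]
  obtain ⟨u, hu⟩ := R.trans R.c
  have key : ∀ p q : ℕ, p < 31671 → q < 31671 → Com p q → p ≠ q → ∃ g : Fi23, rho g 0 = p ∧ rho g (rho u 0) = q := by
    intro p q hp hq h hn
    obtain ⟨g, rfl⟩ := exists_rep hp
    obtain ⟨k, rfl⟩ := exists_rep hq
    have h2 : R.Com R.x0 ((g⁻¹ * k) • R.x0) := by
      rw [com_iff hq, ← h1, ← h1] at h
      refine (R.com_smul g R.x0 ((g⁻¹ * k) • R.x0)).1 ?_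
      rw [smul_smul, mul_inv_cancel_left]
      exact h
    rcases R.com_x0_iff.1 h2 with h3 | ⟨m, hm, hm'⟩
    · exfalso
      apply hn
      have h4 : k • R.x0 = g • R.x0 := by
        rw [mul_smul, inv_smul_eq_iff] at h3
        exact h3
      rw [← (smul_x0_iff hR0 _ _).1 h4]
    · refine ⟨g * m, ?_, ?_⟩
      · apply (smul_x0_iff hR0 _ _).1
        rw [mul_smul, hm]
      · rw [← Equiv.Perm.mul_apply, ← map_mul]
        apply (smul_x0_iff hR0 _ _).1
        rw [mul_smul, hu, mul_smul, hm', smul_smul, mul_inv_cancel_left]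
  obtain ⟨g, hg, hg'⟩ := key p q hp hq h hn
  obtain ⟨k, hk, hk'⟩ := key p' q' hp' hq' h' hn'
  refine ⟨k * g⁻¹, ?_, ?_⟩
  · rw [map_mul, Equiv.Perm.mul_apply, map_inv, (Equiv.Perm.inv_eq_iff_eq).2 hg.symm, hk]
  · rw [map_mul, Equiv.Perm.mul_apply, map_inv, (Equiv.Perm.inv_eq_iff_eq).2 hg'.symm, hk']

/-- **the row CHIEF** -/
theorem chief_model (B : Base) (D : Set ℕ) : Chief.{u} 1 D Spor.Fi23 := by
  have := finG
  refine chief_of_codimT (c := 1) (K := 30000000) (q := 2 ^ 27) D le_rfl H305.S8.Fi23K.k_le (by norm_num) ?_ ?_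
  · have h : Nat.card Spor.Fi23 = 4089470473293004800 := card_G
    rw [h]
    norm_num
  · intro A _ _ _ r hr hexp hnf _ hT z hz
    by_cases h2 : r = 2
    · subst h2
      refine index_two_of pair_trans_com ?_ hnf hz
      intro x
      rw [← two_nsmul]
      exact hexp x
    · exfalso
      obtain ⟨x, hx0, hx⟩ := fixed_odd hr h2 hexp hnf
      obtain ⟨h3, h4⟩ := hT x hx0
      have h5 : 23 ∣ Nat.card (MulAction.stabilizer Fi23 x) := by
        have h6 := Subgroup.orderOf_dvd_natCard (MulAction.stabilizer Fi23 x) (x := Y) hx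
        rwa [order_Y] at h6
      have h7 := Fi23P.le_of_dvd23 B h3 h5
      rw [one_mul] at h4
      exact absurd h4 (not_lt.2 h7)

/-- **the row CHIEF for `Fi23`** -/
theorem chief (B : Base) {X : Type v} [Group X] (h : Spor.IsoFi23 X) (D : Set ℕ) : Chief.{u} 1 D X := by
  obtain ⟨e⟩ := h
  exact H546.S8.chief_congr e.symm (chief_model B D)

end Cfsg.Agent.H30.S8.Fi23
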