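import Cfsg.Agent.H30.S8.Fi23W

/-!
# `Fi23`: codimensions of fixed spaces (helper30)

* `index_two` : `|A : C_A(z)| ≥ 2 ^ 27` for `z ≠ 1` and every fixed point free module of exponent 2;
* `fixed_odd` : an element of order 23 has a nonzero fixed point on every fixed point free module of odd exponent.
-/

set_option autoImplicit false
set_option maxRecDepth 100000
set_option linter.constructorNameAsVariable false
set_option linter.unusedSectionVars false

universe u

namespace Cfsg.Agent.H30.S8.Fi23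

open Subgroup Cfsg Cfsg.Agent.Lib.PermNet Cfsg.Agent.Fischer.Fi23Hom Cfsg.Agent.LThreeFi23 Cfsg.Agent.H320.SD
open Cfsg.Spor (Fi23)

theorem zc_ne : Nat.beq (ptw zc 8003) 8003 = false := by decide +kernel
theorem q1_pt : Nat.beq (ptw [.c, .d, .h, .i, .e, .d, .h, .f, .e, .d, .c] 8004) 1362 = true := by decide +kernel
theorem q1_nc : Nat.beq (ptw [.b] 1362) 1362 = false := by decide +kernel
theorem ab_nc : Nat.beq (ptw [.a] 8004) 8004 = false := by decide +kernel
theorem db_c : Nat.beq (ptw [.d] 8004) 8004 = true := by decide +kernel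
theorem ad_c : Nat.beq (ptw [.a] 8000) 8000 = true := by decide +kernel
theorem y_ne : Nat.beq (ptw y 2522) 2522 = false := by decide +kernel
theorem pts_all : (pts.all fun p => (pts.any fun q => Nat.beq (ptw y p) q) && Nat.beq (ptw t p) p) = true := by
  decide +kernel

theorem elw_one (x : Lt) : elw [x] = el x := by rw [elw_cons, elw_nil, mul_one]

theorem T_pal (w : List Lt) (x : Lt) : T (ptw w (pt x)) = elw (w ++ ([x] ++ w.reverse)) := by
  rw [ptw_eq, T_act _ (pt_lt x), T_pt, elw_append, elw_append, elw_reverse, elw_one]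
  group

theorem not_com_ab : ¬ Com (pt .a) (pt .b) := by
  intro h
  have h1 := (com_pt_iff .a _).1 h
  rw [← elw_one, ← ptw_eq] at h1
  have h2 := ab_nc
  rw [show (8004 : ℕ) = pt .b from rfl, h1, Nat.beq_refl] at h2
  exact Bool.noConfusion h2

theorem com_db : Com (pt .d) (pt .b) := by
  rw [com_pt_iff, ← elw_one, ← ptw_eq]
  exact Nat.eq_of_beq_eq_true db_c

theorem com_ad : Com (pt .a) (pt .d) := by
  rw [com_pt_iff, ← elw_one, ← ptw_eq]
  exact Nat.eq_of_beq_eq_true ad_c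

section

variable {A : Type u} [AddCommGroup A] [DistribMulAction Fi23 A]

/-- the action is faithful -/
theorem faithful (hnf : ∀ x : A, (∀ g : Fi23, g • x = x) → x = 0) [Nontrivial A] {z : Fi23} (hz : z ≠ 1) :
    ∃ x : A, z • x ≠ x := by
  by_contra hcon
  push Not at hcon
  have := nsimple
  let K : Subgroup Fi23 :=
    { carrier := {g | ∀ x : A, g • x = x}
      one_mem' := fun x => one_smul _ x
      mul_mem' := fun {a b} ha hb x => by rw [mul_smul, hb x, ha x]
      inv_mem' := fun {a} ha x => by rw [inv_smul_eq_iff]; exact (ha x).symm }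
  have hK : K.Normal := ⟨fun n hn g x => by
    show (g * n * g⁻¹) • x = x
    rw [mul_smul, mul_smul, hn, smul_inv_smul]⟩
  have hzK : z ∈ K := hcon
  rcases hK.eq_bot_or_eq_top with h | h
  · rw [h, mem_bot] at hzK
    exact hz hzK
  · obtain ⟨x, hx⟩ := exists_ne (0 : A)
    apply hx
    apply hnf
    intro g
    have : g ∈ K := by rw [h]; exact mem_top g
    exact this x

variable [Finite A]

theorem index_nc {p q p' q' : ℕ} (hp : p < 31671) (hq : q < 31671) (hp' : p' < 31671) (hq' : q' < 31671)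
    (h : ¬ Com p q) (h' : ¬ Com p' q') : (fx A (T p * T q)).index = (fx A (T p' * T q')).index := by
  obtain ⟨g, hg, hg'⟩ := pair_trans hp hq hp' hq' h h'
  have e : T p' * T q' = g * (T p * T q) * g⁻¹ := by
    rw [← hg, ← hg', T_act g hp, T_act g hq]; group
  rw [e, index_conj]

theorem u1_eq : elw u1 = T (pt .b) * T 1362 := by
  rw [T_pt, ← Nat.eq_of_beq_eq_true q1_pt, show (8004 : ℕ) = pt .b from rfl, T_pal, ← elw_one, ← elw_append]
  rfl

theorem u1_nc : ¬ Com (pt .b) 1362 := by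
  intro h
  have h1 := (com_pt_iff .b _).1 h
  rw [← elw_one, ← ptw_eq] at h1
  have h2 := q1_nc
  rw [h1, Nat.beq_refl] at h2
  exact Bool.noConfusion h2

theorem u1_ge (h2 : ∀ x : A, x + x = 0) (hnf : ∀ x : A, (∀ g : Fi23, g • x = x) → x = 0) [Nontrivial A] :
    4 ^ 54 ≤ (fx A (elw u1)).index := by
  have h := index_ge (A := A) tw ?_ ?_
  · exact h
  · have hz1 : elw zc ≠ 1 := by
      intro h
      have h3 : ptw zc 8003 = 8003 := by rw [ptw_eq, h, map_one]; rfl
      have h4 := zc_ne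
      rw [h3, Nat.beq_refl] at h4
      exact Bool.noConfusion h4
    obtain ⟨x, hx⟩ := faithful hnf hz1
    intro hbot
    have h3 : x - elw zc • x ∈ cm A (elw zc) := mem_cm.2 ⟨x, rfl⟩
    rw [hbot, AddSubgroup.mem_bot, sub_eq_zero] at h3
    exact hx h3.symm
  · intro x hx
    rw [h2, zero_add] at hx
    exact hx

/-- the codimension bound in characteristic 2, from the transitivity on the commuting pairs -/
theorem index_two_of (hpc : ∀ {p q p' q' : ℕ}, p < 31671 → q < 31671 → p' < 31671 → q' < 31671 → Com p q → p ≠ q →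
      Com p' q' → p' ≠ q' → ∃ g : Fi23, rho g p = p' ∧ rho g q = q')
    (h2 : ∀ x : A, x + x = 0) (hnf : ∀ x : A, (∀ g : Fi23, g • x = x) → x = 0) [Nontrivial A]
    {z : Fi23} (hz : z ≠ 1) : 2 ^ 27 ≤ (fx A z).index := by
  have hD := u1_ge h2 hnf
  have hpos : 1 ≤ (fx A z).index := Nat.one_le_iff_ne_zero.2 AddSubgroup.index_ne_zero_of_finite
  suffices h : (fx A (elw u1)).index ≤ (fx A z).index ^ 4 by
    by_contra hlt
    push Not at hlt
    have h3 : (fx A z).index ^ 4 < (2 ^ 27) ^ 4 := Nat.pow_lt_pow_left hlt (by norm_num)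
    have h4 := (hD.trans h).trans_lt h3
    norm_num at h4
  obtain ⟨x, hx⟩ : ∃ x : Lt, z * el x ≠ el x * z := by
    by_contra hcon
    push Not at hcon
    exact hz (eq_one_of_comm hcon)
  have hp : pt x < 31671 := pt_lt x
  set p := pt x with hpdef
  have hqp : rho z p ≠ p := fun h => hx ((fix_pt_iff z x).1 h)
  have hq : rho z p < 31671 := act_lt z hp
  set q := rho z p with hqdef
  have hTq : T q = z * T p * z⁻¹ := T_act z hp
  have e1 : T q * T p = z * (T p * z⁻¹ * (T p)⁻¹) := by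
    rw [hTq, T_inv hp]; group
  have i1 : (fx A (T q * T p)).index ≤ (fx A z).index ^ 2 := by
    rw [e1]
    exact index_comm z (T p)
  rw [u1_eq]
  by_cases hc : Com q p
  · obtain ⟨g, hg, hg'⟩ := hpc (pt_lt .d) (pt_lt .a) hq hp ((com_comm (pt_lt .a) (pt_lt .d)).1 com_ad) (by decide) hc hqp
    set s := rho g (pt .b) with hs
    have hsl : s < 31671 := act_lt g (pt_lt .b)
    have c1 : Com q s := by
      rw [← hg, hs, com_act g (pt_lt .d)]
      exact com_db
    have c2 : ¬ Com p s := by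
      rw [← hg', hs, com_act g (pt_lt .a)]
      exact not_com_ab
    have c3 : ¬ Com s p := fun h => c2 ((com_comm hsl hp).1 h)
    have k1 : T q * T s = T s * T q := (com_iff hsl).1 c1
    have k2 : T q * T p = T p * T q := (com_iff hp).1 hc
    have k3 : T p * T s * T p = T s * T p * T s := braid hp hsl c2
    have e2 : T s * T p = (T q * T p) * (T s * (T q * T p)⁻¹ * (T s)⁻¹) := by
      rw [mul_inv_rev, T_inv hp, T_inv hq, T_inv hsl]
      symm
      calc T q * T p * (T s * (T p * T q) * T s) = T q * (T p * T s * T p) * (T q * T s) := by group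
        _ = T q * (T s * T p * T s) * (T s * T q) := by rw [k3, k1]
        _ = T q * (T s * T p) * (T s * T s) * T q := by group
        _ = (T q * T s) * T p * T q := by rw [T_sq hsl]; group
        _ = T s * (T q * T p) * T q := by rw [k1]; group
        _ = T s * T p * (T q * T q) := by rw [k2]; group
        _ = T s * T p := by rw [T_sq hq, mul_one]
    have i2 : (fx A (T s * T p)).index ≤ (fx A (T q * T p)).index ^ 2 := by
      rw [e2]
      exact index_comm _ _
    rw [index_nc (pt_lt .b) (by norm_num) hsl hp u1_nc c3]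
    calc (fx A (T s * T p)).index ≤ (fx A (T q * T p)).index ^ 2 := i2
      _ ≤ ((fx A z).index ^ 2) ^ 2 := Nat.pow_le_pow_left i1 2
      _ = (fx A z).index ^ 4 := by rw [← pow_mul]
  · rw [index_nc (pt_lt .b) (by norm_num) hq hp u1_nc hc]
    exact i1.trans (Nat.pow_le_pow_right hpos (by norm_num))

end

/-! ### The element of order 23 -/

abbrev Y : Fi23 := elw y
abbrev tt : Fi23 := elw t

theorem Y_pow : Y ^ 23 = 1 := by
  rw [← elw_wrep, elw_eq_of_agree y_pow, elw_nil]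

theorem tY_pow : (tt * Y) ^ 23 = 1 := by
  rw [← elw_append, ← elw_wrep, elw_eq_of_agree ty_pow, elw_nil]

theorem T_t : T 2522 = tt := by
  rw [← Nat.eq_of_beq_eq_true t_pt, show (8003 : ℕ) = pt .c from rfl, T_pal]
  rfl

theorem pts_spec {p : ℕ} (hp : p ∈ pts) : rho Y p ∈ pts ∧ rho tt p = p := by
  have h := List.all_eq_true.1 pts_all p hp
  rw [Bool.and_eq_true, List.any_eq_true] at h
  obtain ⟨⟨q, hq, h1⟩, h2⟩ := h
  rw [← ptw_eq, ← ptw_eq]
  refine ⟨?_, Nat.eq_of_beq_eq_true h2⟩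
  rw [Nat.eq_of_beq_eq_true h1]
  exact hq

theorem pts_pow (i : ℕ) : rho (Y ^ i) 2522 ∈ pts := by
  induction i with
  | zero => rw [pow_zero, map_one]; decide
  | succ i ih =>
    rw [pow_succ', map_mul, Equiv.Perm.mul_apply]
    exact (pts_spec ih).1

/-- the conjugates of `t` under the powers of `y` -/
def gens : Set Fi23 := Set.range fun i : ℕ => Y ^ i * tt * (Y ^ i)⁻¹

abbrev E : Subgroup Fi23 := closure gens

theorem comm_pow (i : ℕ) : tt * (Y ^ i * tt * (Y ^ i)⁻¹) = Y ^ i * tt * (Y ^ i)⁻¹ * tt := by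
  have h1 := (pts_spec (pts_pow i)).2
  have h2 := (fix_iff tt (act_lt (Y ^ i) (by norm_num : 2522 < 31671))).1 h1
  rw [T_act (Y ^ i) (by norm_num : 2522 < 31671), T_t] at h2
  exact h2

theorem comm_le (i j : ℕ) : Y ^ i * tt * (Y ^ i)⁻¹ * (Y ^ (i + j) * tt * (Y ^ (i + j))⁻¹) =
    Y ^ (i + j) * tt * (Y ^ (i + j))⁻¹ * (Y ^ i * tt * (Y ^ i)⁻¹) := by
  have h := comm_pow j
  rw [pow_add]
  calc Y ^ i * tt * (Y ^ i)⁻¹ * (Y ^ i * Y ^ j * tt * (Y ^ i * Y ^ j)⁻¹) =
        Y ^ i * (tt * (Y ^ j * tt * (Y ^ j)⁻¹)) * (Y ^ i)⁻¹ := by group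
    _ = Y ^ i * (Y ^ j * tt * (Y ^ j)⁻¹ * tt) * (Y ^ i)⁻¹ := by rw [h]
    _ = _ := by group

theorem comm_gens : ∀ a ∈ gens, ∀ b ∈ gens, a * b = b * a := by
  rintro _ ⟨i, rfl⟩ _ ⟨j, rfl⟩
  show Y ^ i * tt * (Y ^ i)⁻¹ * (Y ^ j * tt * (Y ^ j)⁻¹) = Y ^ j * tt * (Y ^ j)⁻¹ * (Y ^ i * tt * (Y ^ i)⁻¹)
  rcases le_total i j with h | h
  · obtain ⟨k, rfl⟩ := Nat.exists_eq_add_of_le h
    exact comm_le i k
  · obtain ⟨k, rfl⟩ := Nat.exists_eq_add_of_le h
    exact (comm_le j k).symm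

theorem comm_E : ∀ a ∈ E, ∀ b ∈ E, a * b = b * a := by
  intro a ha b hb
  have h1 : E ≤ centralizer gens := by
    rw [closure_le]
    intro c hc
    rw [SetLike.mem_coe, mem_centralizer_iff]
    intro d hd
    exact comm_gens d hd c hc
  have h2 : E ≤ centralizer (E : Set Fi23) := by
    rw [closure_le]
    intro c hc
    rw [SetLike.mem_coe, mem_centralizer_iff]
    intro d hd
    exact ((mem_centralizer_iff.1 (h1 hd)) c hc).symm
  exact (mem_centralizer_iff.1 (h2 hb)) a ha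

theorem tt_sq : tt * tt = 1 := by
  rw [← T_t]
  exact T_sq (by norm_num)

theorem sq_E : ∀ a ∈ E, a * a = 1 := by
  intro a ha
  induction ha using closure_induction with
  | mem x hx =>
    obtain ⟨i, rfl⟩ := hx
    show Y ^ i * tt * (Y ^ i)⁻¹ * (Y ^ i * tt * (Y ^ i)⁻¹) = 1
    calc _ = Y ^ i * (tt * tt) * (Y ^ i)⁻¹ := by group
      _ = 1 := by rw [tt_sq]; group
  | one => exact mul_one 1
  | mul x y' hx hy' h1 h2 =>
    calc x * y' * (x * y') = x * (y' * x) * y' := by group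
      _ = x * (x * y') * y' := by rw [comm_E _ hy' _ hx]
      _ = (x * x) * (y' * y') := by group
      _ = 1 := by rw [h1, h2, one_mul]
  | inv x hx h1 => rw [← mul_inv_rev, h1, inv_one]

theorem norm_E : ∀ e ∈ E, Y * e * Y⁻¹ ∈ E := by
  intro e he
  induction he using closure_induction with
  | mem x hx =>
    obtain ⟨i, rfl⟩ := hx
    refine subset_closure ⟨i + 1, ?_⟩
    show Y ^ (i + 1) * tt * (Y ^ (i + 1))⁻¹ = Y * (Y ^ i * tt * (Y ^ i)⁻¹) * Y⁻¹
    rw [pow_succ']; group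
  | one => rw [mul_one, mul_inv_cancel]; exact one_mem _
  | mul x y' _ _ h1 h2 =>
    have e1 : Y * (x * y') * Y⁻¹ = (Y * x * Y⁻¹) * (Y * y' * Y⁻¹) := by group
    rw [e1]
    exact mul_mem h1 h2
  | inv x _ h1 =>
    have e1 : Y * x⁻¹ * Y⁻¹ = (Y * x * Y⁻¹)⁻¹ := by group
    rw [e1]
    exact inv_mem h1

/-- `e · e^y · e^(y²) ⋯` -/
def F (n : ℕ) (e : Fi23) : Fi23 := (e * Y) ^ n * (Y ^ n)⁻¹

theorem F_succ (n : ℕ) (e : Fi23) : F (n + 1) e = e * (Y * F n e * Y⁻¹) := by
  unfold F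
  rw [pow_succ' (e * Y), pow_succ Y n]
  have : Y * (Y ^ n)⁻¹ = (Y ^ n)⁻¹ * Y := by
    have h : Commute Y (Y ^ n) := (Commute.refl Y).pow_right n
    exact h.inv_right
  calc e * Y * (e * Y) ^ n * (Y ^ n * Y)⁻¹ = e * (Y * (e * Y) ^ n * (Y⁻¹ * (Y ^ n)⁻¹)) := by group
    _ = e * (Y * (e * Y) ^ n * ((Y ^ n)⁻¹ * Y⁻¹)) := by
        have h : Commute Y⁻¹ (Y ^ n)⁻¹ := ((Commute.refl Y).pow_right n).inv_inv
        rw [h.eq]
    _ = _ := by group

theorem F_mem (n : ℕ) {e : Fi23} (he : e ∈ E) : F n e ∈ E := by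
  induction n with
  | zero => unfold F; simp
  | succ n ih =>
    rw [F_succ]
    exact mul_mem he (norm_E _ ih)

theorem F_mul (n : ℕ) {e e' : Fi23} (he : e ∈ E) (he' : e' ∈ E) : F n (e * e') = F n e * F n e' := by
  induction n with
  | zero => unfold F; simp
  | succ n ih =>
    rw [F_succ, F_succ, F_succ, ih]
    have h1 := comm_E _ he' _ (norm_E _ (F_mem n he))
    calc e * e' * (Y * (F n e * F n e') * Y⁻¹) = e * (e' * (Y * F n e * Y⁻¹)) * (Y * F n e' * Y⁻¹) := by group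
      _ = e * ((Y * F n e * Y⁻¹) * e') * (Y * F n e' * Y⁻¹) := by rw [h1]
      _ = _ := by group

theorem F_one (n : ℕ) : F n 1 = 1 := by
  unfold F
  rw [one_mul, mul_inv_cancel]

theorem F_E : ∀ e ∈ E, F 23 e = 1 := by
  intro e he
  induction he using closure_induction with
  | mem x hx =>
    obtain ⟨i, rfl⟩ := hx
    show (Y ^ i * tt * (Y ^ i)⁻¹ * Y) ^ 23 * (Y ^ 23)⁻¹ = 1
    have h : Commute Y⁻¹ (Y ^ i)⁻¹ := ((Commute.refl Y).pow_right i).inv_inv
    have e1 : Y ^ i * tt * (Y ^ i)⁻¹ * Y = Y ^ i * (tt * Y) * (Y ^ i)⁻¹ := by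
      have h2 : (Y ^ i)⁻¹ * Y = Y * (Y ^ i)⁻¹ := (((Commute.refl Y).pow_right i).inv_right).eq.symm
      rw [mul_assoc, h2]; group
    rw [e1, conj_pow, tY_pow, Y_pow]
    group
  | one => exact F_one 23
  | mul x y' hx hy' h1 h2 => rw [F_mul 23 hx hy', h1, h2, one_mul]
  | inv x hx h1 =>
    have h2 := F_mul 23 hx (inv_mem hx)
    rw [mul_inv_cancel, F_one, h1, one_mul] at h2
    exact h2.symm

theorem fix_E : ∀ e ∈ E, Y * e = e * Y → e = 1 := by
  intro e he hc
  have h1 := F_E e he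
  unfold F at h1
  have h2 : Commute e Y := hc.symm
  rw [h2.mul_pow, Y_pow, inv_one, mul_one, mul_one] at h1
  have h3 : e ^ 2 = 1 := by rw [pow_two]; exact sq_E e he
  calc e = e ^ 23 := by
        rw [show (23 : ℕ) = 2 * 11 + 1 from rfl, pow_succ, pow_mul, h3, one_pow, one_mul]
    _ = 1 := h1

theorem card_E : ∃ k : ℕ, Nat.card E = 2 ^ k := by
  have := finG
  have : Fact (Nat.Prime 2) := ⟨Nat.prime_two⟩
  apply IsPGroup.iff_card.1
  intro e
  refine ⟨1, ?_⟩
  apply Subtype.ext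
  rw [pow_one, pow_two]
  exact sq_E e e.2

theorem tt_mem : tt ∈ E := subset_closure ⟨0, by show Y ^ 0 * tt * (Y ^ 0)⁻¹ = tt; simp⟩

theorem tt_ne : tt ≠ 1 := by
  intro h
  have h1 : T 2522 = 1 := T_t.trans h
  obtain ⟨g, hg⟩ := exists_rep (p := 2522) (by norm_num)
  have h2 := T_act g (p := 0) (by norm_num)
  rw [hg, h1, T_zero] at h2
  have h3 : Cfsg.Agent.Fischer.Fi23Z.z0 = 1 := by
    have h4 : Cfsg.Agent.Fischer.Fi23Z.z0 = g⁻¹ * (g * Cfsg.Agent.Fischer.Fi23Z.z0 * g⁻¹) * g := by group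
    rw [h4, ← h2]; group
  apply Cfsg.Agent.Fischer.Fi23Class.z0_ncomm
  rw [h3, one_mul, mul_one]

theorem order_Y : orderOf Y = 23 := by
  have : Fact (Nat.Prime 23) := ⟨by norm_num⟩
  refine orderOf_eq_prime Y_pow ?_
  intro h
  have h3 : ptw y 2522 = 2522 := by rw [ptw_eq]; show rho Y 2522 = 2522; rw [h, map_one]; rfl
  have h4 := y_ne
  rw [h3, Nat.beq_refl] at h4
  exact Bool.noConfusion h4

section

variable {A : Type u} [AddCommGroup A] [DistribMulAction Fi23 A]

/-- **odd characteristic** -/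
theorem fixed_odd {r : ℕ} (hr : r.Prime) (h2 : r ≠ 2) (hexp : ∀ x : A, r • x = 0)
    (hnf : ∀ x : A, (∀ g : Fi23, g • x = x) → x = 0) [Nontrivial A] : ∃ x : A, x ≠ 0 ∧ Y • x = x := by
  have := finG
  refine exists_fixed E (p := 23) (by norm_num) Y_pow norm_E fix_E ?_ ⟨tt, tt_mem, faithful hnf tt_ne⟩
  intro v hv
  obtain ⟨k, hk⟩ := card_E
  rw [hk] at hv
  have d1 := addOrderOf_dvd_of_nsmul_eq_zero hv
  have d2 := addOrderOf_dvd_of_nsmul_eq_zero (hexp v)
  have hcop : Nat.Coprime (2 ^ k) r := Nat.Coprime.pow_left k ((Nat.coprime_primes Nat.prime_two hr).2 (Ne.symm h2))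
  exact AddMonoid.addOrderOf_eq_one_iff.1 (Nat.dvd_one.1 (hcop ▸ Nat.dvd_gcd d1 d2))

end

end Cfsg.Agent.H30.S8.Fi23
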