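import Cfsg.Agent.H320.SD.ChiefOf

/-!
# `Chief` of S4908: tools (helper30)

* `chief_of_codimT` : helper320's `chief_of_codim`, where the stabilizers may be used in the proof of the codimension bound;
* `exists_fixed` : if `⟨y⟩` acts on the abelian group `E` without fixed points, `y` has a fixed point on every module on
  which `E` acts nontrivially and `|E|` is invertible;
* `chain_le` : a tower of commuting extraspecial groups of order 27.
-/

set_option autoImplicit false
set_option linter.unusedSectionVars false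

namespace Cfsg.Agent.H30.S8

open Cfsg Cfsg.Agent.H320.SD

universe u v

open Cfsg.Agent.H704.S8 in
/-- **`Chief` from codimensions.** -/
theorem chief_of_codimT {X : Type v} [Group X] [Finite X] {c K q : ℕ} (D : Set ℕ) (hc : 1 ≤ c)
    (hk : Nat.card (ConjClasses X) ≤ K) (hq : c * K < q) (hX : c * q < Nat.card X)
    (hcod : ∀ (A : Type u) [AddCommGroup A] [Finite A] [DistribMulAction X A] (r : ℕ), r.Prime →
      (∀ x : A, r • x = 0) → (∀ x : A, (∀ g : X, g • x = x) → x = 0) → Nontrivial A →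
      (∀ x : A, x ≠ 0 → MulAction.stabilizer X x ≠ ⊤ ∧ Nat.card X <
        c * (Nat.card (MulAction.stabilizer X x) * Nat.card (ConjClasses (MulAction.stabilizer X x)))) →
      ∀ z : X, z ≠ 1 → q ≤ (fx A z).index) : Chief.{u} c D X := by
  intro Λ _ _ ρ h
  by_contra hne
  push Not at hne
  obtain ⟨x0, hx0⟩ := hne
  have hnt : Nontrivial Λ := ⟨x0, 1, hx0⟩
  obtain ⟨r, hr, hdvd⟩ := Nat.exists_prime_and_dvd (Finite.one_lt_card (α := Λ)).ne'
  have : Fact r.Prime := ⟨hr⟩
  obtain ⟨y, hy⟩ := exists_prime_orderOf_dvd_card' r hdvd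
  let S : Subgroup Λ := (powMonoidHom r : Λ →* Λ).ker
  have hS : ∀ x : Λ, x ∈ S ↔ x ^ r = 1 := fun x => Iff.rfl
  have hρ : ∀ (g : X) (x : Λ), x ∈ S → ρ g x ∈ S := by
    intro g x hx
    rw [hS, ← map_pow, (hS x).1 hx, map_one]
  let act : DistribMulAction X (Additive S) :=
    { smul := fun g a => Additive.ofMul ⟨ρ g (Additive.toMul a : S), hρ g _ (Additive.toMul a : S).2⟩
      one_smul := fun a => by
        apply Additive.toMul.injective
        apply Subtype.ext
        show ρ 1 (Additive.toMul a : S) = _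
        rw [map_one]; rfl
      mul_smul := fun g g' a => by
        apply Additive.toMul.injective
        apply Subtype.ext
        show ρ (g * g') (Additive.toMul a : S) = ρ g (ρ g' (Additive.toMul a : S))
        rw [map_mul]; rfl
      smul_zero := fun g => by
        apply Additive.toMul.injective
        apply Subtype.ext
        show ρ g 1 = 1
        rw [map_one]
      smul_add := fun g a b => by
        apply Additive.toMul.injective
        apply Subtype.ext
        show ρ g ((Additive.toMul a : S) * (Additive.toMul b : S)) = ρ g _ * ρ g _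
        rw [map_mul] }
  have hval : ∀ (g : X) (a : Additive S), ((Additive.toMul (g • a) : S) : Λ) = ρ g (Additive.toMul a : S) := fun _ _ => rfl
  have hfix : ∀ (g : X) (a : Additive S), g • a = a ↔ ρ g ((Additive.toMul a : S) : Λ) = (Additive.toMul a : S) := by
    intro g a
    constructor
    · intro h1
      rw [← hval, h1]
    · intro h1
      apply Additive.toMul.injective
      apply Subtype.ext
      rw [hval, h1]
  have hne0 : ∀ a : Additive S, a ≠ 0 → ((Additive.toMul a : S) : Λ) ≠ 1 := by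
    intro a ha h1
    apply ha
    apply Additive.toMul.injective
    apply Subtype.ext
    exact h1
  have hA : Nontrivial (Additive S) := by
    refine ⟨Additive.ofMul ⟨y, (hS y).2 (by rw [← hy]; exact pow_orderOf_eq_one y)⟩, 0, ?_⟩
    intro h1
    have h2 : y = 1 := congrArg (fun a : Additive S => ((Additive.toMul a : S) : Λ)) h1
    rw [h2, orderOf_one] at hy
    exact hr.one_lt.ne hy
  have hT : ∀ x : Additive S, x ≠ 0 → MulAction.stabilizer X x ≠ ⊤ ∧ Nat.card X <
      c * (Nat.card (MulAction.stabilizer X x) * Nat.card (ConjClasses (MulAction.stabilizer X x))) := by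
    intro x hx
    obtain ⟨T, hT, hTt, hcard, -⟩ := h _ (hne0 x hx)
    have e : T = MulAction.stabilizer X x := by
      ext g
      rw [hT, MulAction.mem_stabilizer_iff, hfix]
    subst e
    exact ⟨hTt, hcard⟩
  have hexp : ∀ x : Additive S, r • x = 0 := by
    intro x
    apply Additive.toMul.injective
    apply Subtype.ext
    exact (hS _).1 (Additive.toMul x : S).2
  have hnf : ∀ x : Additive S, (∀ g : X, g • x = x) → x = 0 := by
    intro x hx
    by_contra hx0
    apply (hT x hx0).1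
    rw [eq_top_iff]
    intro g _
    exact hx g
  exact count hc hk (hcod (Additive S) r hr hexp hnf hA hT) hq hX fun x hx => (hT x hx).2.le

/-! ### A fixed point of a complement -/

section Fixed

variable {X : Type v} [Group X] {A : Type u} [AddCommGroup A] [DistribMulAction X A]

theorem exists_fixed (E : Subgroup X) [Finite E] {y : X} {p : ℕ}
    (hp : p.Prime) (hy : y ^ p = 1) (hyE : ∀ e ∈ E, y * e * y⁻¹ ∈ E) (hfix : ∀ e ∈ E, y * e = e * y → e = 1)
    (hinv : ∀ v : A, Nat.card E • v = 0 → v = 0) (hne : ∃ e ∈ E, ∃ v : A, e • v ≠ v) :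
    ∃ x : A, x ≠ 0 ∧ y • x = x := by
  classical
  by_contra hcon
  push Not at hcon
  have := Fintype.ofFinite E
  -- powers of `y`
  have hyE' : ∀ (j : ℕ), ∀ e ∈ E, y ^ j * e * (y ^ j)⁻¹ ∈ E := by
    intro j
    induction j with
    | zero => intro e he; simpa using he
    | succ j ih =>
      intro e he
      have h1 := hyE _ (ih e he)
      have e1 : y ^ (j + 1) * e * (y ^ (j + 1))⁻¹ = y * (y ^ j * e * (y ^ j)⁻¹) * y⁻¹ := by
        rw [pow_succ']; group
      rw [e1]
      exact h1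
  have hyinv : ∀ (j : ℕ), ∀ e ∈ E, (y ^ j)⁻¹ * e * y ^ j ∈ E := by
    intro j e he
    have h1 : ∀ e ∈ E, y⁻¹ * e * y ∈ E := by
      intro e he
      have h2 := hyE' (p - 1) e he
      have h3 : y ^ (p - 1) = y⁻¹ := by
        rw [eq_inv_iff_mul_eq_one, ← pow_succ, Nat.sub_add_cancel hp.one_lt.le, hy]
      rwa [h3, inv_inv] at h2
    induction j generalizing e with
    | zero => simpa using he
    | succ j ih =>
      have h2 := ih _ (h1 e he)
      have e1 : (y ^ (j + 1))⁻¹ * e * y ^ (j + 1) = (y ^ j)⁻¹ * (y⁻¹ * e * y) * y ^ j := by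
        rw [pow_succ', mul_inv_rev]; group
      rw [e1]
      exact h2
  let S : A → A := fun v => ∑ e : E, (e : X) • v
  -- the orbit sums of `y` vanish
  have hP : ∀ v : A, ∑ j ∈ Finset.range p, y ^ j • v = 0 := by
    intro v
    by_contra h
    apply hcon _ h
    rw [Finset.smul_sum]
    have h1 : ∀ j ∈ Finset.range p, y • y ^ j • v = y ^ (j + 1) • v := fun j _ => by rw [pow_succ', mul_smul]
    rw [Finset.sum_congr rfl h1]
    obtain ⟨n, rfl⟩ : ∃ n, p = n + 1 := ⟨p - 1, (Nat.sub_add_cancel hp.one_lt.le).symm⟩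
    rw [Finset.sum_range_succ, Finset.sum_range_succ', hy, pow_zero]
  have hSy : ∀ (j : ℕ) (v : A), S v = 0 → S (y ^ j • v) = 0 := by
    intro j v hv
    have h1 : S (y ^ j • v) = y ^ j • S v := by
      show ∑ e : E, (e : X) • y ^ j • v = y ^ j • ∑ e : E, (e : X) • v
      rw [Finset.smul_sum]
      let φ : E ≃ E :=
        { toFun := fun e => ⟨(y ^ j)⁻¹ * e * y ^ j, hyinv j e e.2⟩
          invFun := fun e => ⟨y ^ j * e * (y ^ j)⁻¹, hyE' j e e.2⟩
          left_inv := fun e => Subtype.ext (by show y ^ j * ((y ^ j)⁻¹ * e * y ^ j) * (y ^ j)⁻¹ = e; group)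
          right_inv := fun e => Subtype.ext (by show (y ^ j)⁻¹ * (y ^ j * e * (y ^ j)⁻¹) * y ^ j = e; group) }
      rw [← Equiv.sum_comp φ fun e : E => y ^ j • ((e : X) • v)]
      refine Finset.sum_congr rfl fun e _ => ?_
      show (e : X) • y ^ j • v = y ^ j • ((y ^ j)⁻¹ * (e : X) * y ^ j) • v
      rw [← mul_smul, ← mul_smul]
      congr 1; group
    rw [h1, hv, smul_zero]
  have key : ∀ v : A, S v = 0 → v = 0 := by
    intro v hv
    apply hinv
    have h1 : ∑ e : E, (e : X) • (∑ j ∈ Finset.range p, y ^ j • ((e : X)⁻¹ • v)) = 0 := by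
      refine Finset.sum_eq_zero fun e _ => ?_
      rw [hP, smul_zero]
    simp only [Finset.smul_sum] at h1
    rw [Finset.sum_comm] at h1
    obtain ⟨n, hn⟩ : ∃ n, p = n + 1 := ⟨p - 1, (Nat.sub_add_cancel hp.one_lt.le).symm⟩
    rw [hn, Finset.sum_range_succ'] at h1
    have h2 : ∀ j ∈ Finset.range n, ∑ e : E, (e : X) • y ^ (j + 1) • (e : X)⁻¹ • v = 0 := by
      intro j hj
      rw [Finset.mem_range] at hj
      have hcop : (j + 1).Coprime p := by
        rw [Nat.coprime_comm]
        refine hp.coprime_iff_not_dvd.2 fun h => ?_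
        have := Nat.le_of_dvd (Nat.succ_pos j) h
        omega
      let ψ : E → E := fun e => ⟨(e : X) * (y ^ (j + 1) * (e : X)⁻¹ * (y ^ (j + 1))⁻¹),
        E.mul_mem e.2 (hyE' (j + 1) _ (E.inv_mem e.2))⟩
      have hψ : Function.Injective ψ := by
        intro e f hef
        have h3 : (e : X) * (y ^ (j + 1) * (e : X)⁻¹ * (y ^ (j + 1))⁻¹) =
            (f : X) * (y ^ (j + 1) * (f : X)⁻¹ * (y ^ (j + 1))⁻¹) := congrArg Subtype.val hef
        set Y := y ^ (j + 1) with hY
        have hYe : ∀ a ∈ E, Y * a * Y⁻¹ ∈ E := hyE' (j + 1)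
        -- `g = f⁻¹ e` commutes with `Y`
        have h4 : (f : X)⁻¹ * e = Y * ((f : X)⁻¹ * e) * Y⁻¹ := by
          have h5 : (f : X)⁻¹ * e * (Y * (e : X)⁻¹ * Y⁻¹) = Y * (f : X)⁻¹ * Y⁻¹ := by
            calc (f : X)⁻¹ * e * (Y * (e : X)⁻¹ * Y⁻¹) = (f : X)⁻¹ * (e * (Y * (e : X)⁻¹ * Y⁻¹)) := by group
              _ = (f : X)⁻¹ * (f * (Y * (f : X)⁻¹ * Y⁻¹)) := by rw [h3]
              _ = _ := by group
          have h6 : (f : X)⁻¹ * e = (Y * (f : X)⁻¹ * Y⁻¹) * (Y * e * Y⁻¹) := by
            rw [← h5]; group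
          calc (f : X)⁻¹ * e = (Y * (f : X)⁻¹ * Y⁻¹) * (Y * e * Y⁻¹) := h6
            _ = _ := by group
        have h7 : Commute Y ((f : X)⁻¹ * e) := by
          show Y * ((f : X)⁻¹ * e) = (f : X)⁻¹ * e * Y
          conv_rhs => rw [h4]
          group
        have h8 : Commute y ((f : X)⁻¹ * e) := by
          obtain ⟨a, ha⟩ := Nat.exists_mul_mod_eq_one_of_coprime hcop hp.one_lt
          have h9 : Y ^ a = y := by
            rw [hY, ← pow_mul, ← pow_mod_orderOf]
            have h10 : orderOf y ∣ p := orderOf_dvd_of_pow_eq_one hy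
            have h11 : (j + 1) * a ≡ 1 [MOD orderOf y] := (show (j + 1) * a ≡ 1 [MOD p] by
              rw [Nat.ModEq, ha.2, Nat.mod_eq_of_lt hp.one_lt]).of_dvd h10
            rw [h11, pow_mod_orderOf, pow_one]
          rw [← h9]
          exact h7.pow_left a
        have h12 := hfix _ (E.mul_mem (E.inv_mem f.2) e.2) h8
        apply Subtype.ext
        exact (inv_mul_eq_one.1 h12).symm
      have h3 : ∀ e : E, (e : X) • y ^ (j + 1) • (e : X)⁻¹ • v = ((ψ e : E) : X) • (y ^ (j + 1) • v) := by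
        intro e
        show _ = ((e : X) * (y ^ (j + 1) * (e : X)⁻¹ * (y ^ (j + 1))⁻¹)) • (y ^ (j + 1) • v)
        rw [← mul_smul, ← mul_smul, ← mul_smul]
        congr 1; group
      have hbij : Function.Bijective ψ := Finite.injective_iff_bijective.1 hψ
      calc ∑ e : E, (e : X) • y ^ (j + 1) • (e : X)⁻¹ • v = ∑ e : E, ((ψ e : E) : X) • (y ^ (j + 1) • v) :=
            Finset.sum_congr rfl fun e _ => h3 e
        _ = ∑ e : E, (e : X) • (y ^ (j + 1) • v) :=
            hbij.sum_comp (fun e : E => (e : X) • (y ^ (j + 1) • v))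
        _ = 0 := hSy (j + 1) v hv
    rw [Finset.sum_congr rfl h2, Finset.sum_const_zero, zero_add] at h1
    have h3 : ∀ e : E, (e : X) • y ^ 0 • (e : X)⁻¹ • v = v := fun e => by
      rw [pow_zero, one_smul, smul_inv_smul]
    rw [Finset.sum_congr rfl fun e _ => h3 e, Finset.sum_const, Finset.card_univ, ← Nat.card_eq_fintype_card] at h1
    exact h1
  obtain ⟨e, he, v, hv⟩ := hne
  apply hv
  have h1 : S (e • v - v) = 0 := by
    show ∑ f : E, (f : X) • (e • v - v) = 0
    simp only [smul_sub, Finset.sum_sub_distrib]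
    rw [sub_eq_zero]
    let φ : E ≃ E := Equiv.mulRight ⟨e, he⟩
    rw [← Equiv.sum_comp φ fun f : E => (f : X) • v]
    refine Finset.sum_congr rfl fun f _ => ?_
    show (f : X) • e • v = ((f : X) * e) • v
    rw [mul_smul]
  exact sub_eq_zero.1 (key _ h1)

end Fixed

/-! ### A tower of extraspecial groups -/

section Chain

variable {X : Type v} [Group X] {A : Type u} [AddCommGroup A] [DistribMulAction X A] [Finite A]

/-- the relations of a tower of extraspecial groups of order 27 with centre `z` -/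
structure Tw (z : X) (L : List (X × X)) : Prop where
  z3 : z * z * z = 1
  u3 : ∀ p ∈ L, p.1 * p.1 * p.1 = 1
  uz : ∀ p ∈ L, p.1 * z = z * p.1
  vz : ∀ p ∈ L, p.2 * z = z * p.2
  vu : ∀ p ∈ L, p.2 * p.1 = p.1 * (z * p.2)
  pw : L.Pairwise fun p q => q.1 * p.1 = p.1 * q.1 ∧ q.2 * p.1 = p.1 * q.2

theorem chain_le {z : X} : ∀ (L : List (X × X)) (N : AddSubgroup A), Tw z L →
    (∀ x ∈ N, x + z • x + z • z • x = 0) → (∀ x ∈ N, x + x + x = 0 → x = 0) → (∀ x ∈ N, z • x ∈ N) →
    (∀ p ∈ L, ∀ x ∈ N, p.1 • x ∈ N ∧ p.2 • x ∈ N) → N ≠ ⊥ → 4 ^ 3 ^ L.length ≤ Nat.card N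
  | [], N, h, hz, h3, hzN, _, hN => by
    simpa using four_le N hz h3 hzN h.z3 hN
  | p :: L, N, h, hz, h3, hzN, hL, hN => by
    obtain ⟨h1, h2⟩ := step3 N hz h3 (fun x hx => (hL p List.mem_cons_self x hx).1)
      (fun x hx => (hL p List.mem_cons_self x hx).2) (h.u3 p List.mem_cons_self) h.z3 (h.uz p List.mem_cons_self)
      (h.vz p List.mem_cons_self) (h.vu p List.mem_cons_self) hN
    have hpw := List.pairwise_cons.1 h.pw
    have h' : Tw z L := ⟨h.z3, fun q hq => h.u3 q (List.mem_cons_of_mem _ hq), fun q hq => h.uz q (List.mem_cons_of_mem _ hq),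
      fun q hq => h.vz q (List.mem_cons_of_mem _ hq), fun q hq => h.vu q (List.mem_cons_of_mem _ hq), hpw.2⟩
    have hpres : ∀ g : X, g * p.1 = p.1 * g → (∀ x ∈ N, g • x ∈ N) → ∀ x ∈ N ⊓ fx A p.1, g • x ∈ N ⊓ fx A p.1 := by
      intro g hg hgN x hx
      refine ⟨hgN x hx.1, ?_⟩
      show p.1 • g • x = g • x
      rw [← mul_smul, ← hg, mul_smul, mem_fx.1 hx.2]
    have h3' := chain_le L (N ⊓ fx A p.1) h' (fun x hx => hz x hx.1) (fun x hx => h3 x hx.1)
      (hpres z (h.uz p List.mem_cons_self).symm hzN)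
      (fun q hq x hx => ⟨hpres q.1 (hpw.1 q hq).1 (fun y hy => (hL q (List.mem_cons_of_mem _ hq) y hy).1) x hx,
        hpres q.2 (hpw.1 q hq).2 (fun y hy => (hL q (List.mem_cons_of_mem _ hq) y hy).2) x hx⟩) h1
    rw [List.length_cons, pow_succ, pow_mul]
    exact (Nat.pow_le_pow_left h3' 3).trans h2

/-- the index of the fixed points of the first `u` -/
theorem index_ge {z u v : X} {L : List (X × X)} (h : Tw z ((u, v) :: L)) (hz1 : cm A z ≠ ⊥)
    (h3 : ∀ x : A, x + x + x = 0 → x = 0) : 4 ^ (2 * 3 ^ L.length) ≤ (fx A u).index := by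
  set N := cm A z with hN
  have hz : ∀ x ∈ N, x + z • x + z • z • x = 0 := fun x hx => cm3 h.z3 hx
  have hinv : ∀ g : X, g * z = z * g → ∀ x ∈ N, g • x ∈ N := fun g hg x hx => smul_cm hg hx
  have hL : ∀ p ∈ ((u, v) :: L), ∀ x ∈ N, p.1 • x ∈ N ∧ p.2 • x ∈ N := fun p hp x hx =>
    ⟨hinv _ (h.uz p hp) x hx, hinv _ (h.vz p hp) x hx⟩
  obtain ⟨h1, h2⟩ := step3 N hz (fun x _ => h3 x) (fun x hx => (hL _ List.mem_cons_self x hx).1)
      (fun x hx => (hL _ List.mem_cons_self x hx).2) (h.u3 _ List.mem_cons_self) h.z3 (h.uz _ List.mem_cons_self)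
      (h.vz _ List.mem_cons_self) (h.vu _ List.mem_cons_self) hz1
  have hpw := List.pairwise_cons.1 h.pw
  have h' : Tw z L := ⟨h.z3, fun q hq => h.u3 q (List.mem_cons_of_mem _ hq), fun q hq => h.uz q (List.mem_cons_of_mem _ hq),
      fun q hq => h.vz q (List.mem_cons_of_mem _ hq), fun q hq => h.vu q (List.mem_cons_of_mem _ hq), hpw.2⟩
  have hpres : ∀ g : X, g * u = u * g → (∀ x ∈ N, g • x ∈ N) → ∀ x ∈ N ⊓ fx A u, g • x ∈ N ⊓ fx A u := by
    intro g hg hgN x hx
    refine ⟨hgN x hx.1, ?_⟩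
    show u • g • x = g • x
    rw [← mul_smul, ← hg, mul_smul, mem_fx.1 hx.2]
  have h4 := chain_le L (N ⊓ fx A u) h' (fun x hx => hz x hx.1) (fun x _ => h3 x)
      (hpres z (h.uz _ List.mem_cons_self).symm (hinv z rfl))
      (fun q hq x hx => ⟨hpres q.1 (hpw.1 q hq).1 (fun y hy => (hL q (List.mem_cons_of_mem _ hq) y hy).1) x hx,
        hpres q.2 (hpw.1 q hq).2 (fun y hy => (hL q (List.mem_cons_of_mem _ hq) y hy).2) x hx⟩) h1
  have h5 : Nat.card N ≤ Nat.card (N ⊓ fx A u : AddSubgroup A) * (fx A u).index := by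
    have h6 := AddSubgroup.card_mul_index ((N ⊓ fx A u).addSubgroupOf N)
    rw [← h6]
    have h7 : Nat.card ((N ⊓ fx A u).addSubgroupOf N) = Nat.card (N ⊓ fx A u : AddSubgroup A) :=
      Nat.card_congr (AddSubgroup.addSubgroupOfEquivOfLe inf_le_left).toEquiv
    rw [h7]
    refine Nat.mul_le_mul_left _ ?_
    show (N ⊓ fx A u).relIndex N ≤ _
    rw [AddSubgroup.inf_relIndex_left]
    exact Nat.le_of_dvd (Nat.pos_of_ne_zero AddSubgroup.index_ne_zero_of_finite)
      (AddSubgroup.relIndex_dvd_index_of_normal (fx A u) N)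
  have hpos : 0 < Nat.card (N ⊓ fx A u : AddSubgroup A) := Nat.card_pos
  have h8 : Nat.card (N ⊓ fx A u : AddSubgroup A) ^ 2 ≤ (fx A u).index := by
    have h9 : Nat.card (N ⊓ fx A u : AddSubgroup A) * Nat.card (N ⊓ fx A u : AddSubgroup A) ^ 2 ≤
        Nat.card (N ⊓ fx A u : AddSubgroup A) * (fx A u).index := by
      calc _ = Nat.card (N ⊓ fx A u : AddSubgroup A) ^ 3 := by ring
        _ ≤ _ := h2.trans h5
    exact Nat.le_of_mul_le_mul_left h9 hpos
  calc 4 ^ (2 * 3 ^ L.length) = (4 ^ 3 ^ L.length) ^ 2 := by rw [← pow_mul, mul_comm]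
    _ ≤ _ := Nat.pow_le_pow_left h4 2
    _ ≤ _ := h8

end Chain

end Cfsg.Agent.H30.S8
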