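import Cfsg.Agent.LThreeFi23.TwoCl
import Cfsg.Agent.H30.S8.Gen

/-!
# `Fi23`: a subgroup `3^(1+8)` and a subgroup `2^11:23` by words (helper30)
-/

set_option autoImplicit false
set_option maxRecDepth 100000
set_option linter.constructorNameAsVariable false

namespace Cfsg.Agent.H30.S8.Fi23

open Subgroup Cfsg Cfsg.Agent.Lib.PermNet Cfsg.Agent.Fischer.Fi23Hom Cfsg.Agent.LThreeFi23
open Cfsg.Spor (Fi23)

/-- the points of the letters without `e` -/
abbrev ten : List ℕ := [11589, 8004, 8003, 8000, 8002, 8005, 7999, 8007, 8006, 0]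

def u1 : List Lt := [.b, .c, .d, .h, .i, .e, .d, .h, .f, .e, .d, .c, .b, .c, .d, .e, .f, .h, .d, .e, .i, .h, .d, .c]
def v1 : List Lt := [.b, .a]
def u2 : List Lt := [.h, .c, .d, .e, .b, .c, .d, .h, .f, .e, .d, .c, .b, .a, .b, .c, .d, .e, .f, .h, .d, .c, .b, .e, .d, .c]
def v2 : List Lt := [.h, .i]
def u3 : List Lt := [.e, .c, .d, .h, .i, .b, .c, .d, .h, .e, .d, .c, .b, .a, .b, .c, .d, .e, .h, .d, .c, .b, .i, .h, .d, .c]
def v3 : List Lt := [.e, .f]
def u4 : List Lt := [.z, .g, .f, .e, .c, .d, .h, .i, .b, .c, .d, .h, .j, .g, .f, .e, .d, .c, .b, .a, .b, .c, .d, .e, .f, .g, .j, .h, .d, .c, .b, .i, .h, .d, .c, .e, .f, .g]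
def v4 : List Lt := [.z, .j]
/-- the centre of `3^(1+8)` -/
def zc : List Lt := [.c, .d, .h, .i, .e, .d, .h, .f, .e, .d, .c, .b, .c, .d, .e, .f, .h, .d, .e, .i, .h, .d, .c, .b, .b, .a, .b, .c, .d, .h, .i, .e, .d, .h, .f, .e, .d, .c, .b, .c, .d, .e, .f, .h, .d, .e, .i, .h, .d, .c, .a, .b]

theorem z_cube : agree (zc ++ (zc ++ zc)) [] ten = true := by decide +kernel
theorem u_cube1 : agree (u1 ++ (u1 ++ u1)) [] ten = true := by decide +kernel
theorem uz1 : agree (u1 ++ zc) (zc ++ u1) ten = true := by decide +kernel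
theorem vz1 : agree (v1 ++ zc) (zc ++ v1) ten = true := by decide +kernel
theorem vu1 : agree (v1 ++ u1) (u1 ++ (zc ++ v1)) ten = true := by decide +kernel
theorem u_cube2 : agree (u2 ++ (u2 ++ u2)) [] ten = true := by decide +kernel
theorem uz2 : agree (u2 ++ zc) (zc ++ u2) ten = true := by decide +kernel
theorem vz2 : agree (v2 ++ zc) (zc ++ v2) ten = true := by decide +kernel
theorem vu2 : agree (v2 ++ u2) (u2 ++ (zc ++ v2)) ten = true := by decide +kernel
theorem u_cube3 : agree (u3 ++ (u3 ++ u3)) [] ten = true := by decide +kernel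
theorem uz3 : agree (u3 ++ zc) (zc ++ u3) ten = true := by decide +kernel
theorem vz3 : agree (v3 ++ zc) (zc ++ v3) ten = true := by decide +kernel
theorem vu3 : agree (v3 ++ u3) (u3 ++ (zc ++ v3)) ten = true := by decide +kernel
theorem u_cube4 : agree (u4 ++ (u4 ++ u4)) [] ten = true := by decide +kernel
theorem uz4 : agree (u4 ++ zc) (zc ++ u4) ten = true := by decide +kernel
theorem vz4 : agree (v4 ++ zc) (zc ++ v4) ten = true := by decide +kernel
theorem vu4 : agree (v4 ++ u4) (u4 ++ (zc ++ v4)) ten = true := by decide +kernel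
theorem uu12 : agree (u2 ++ u1) (u1 ++ u2) ten = true := by decide +kernel
theorem vv12 : agree (v2 ++ u1) (u1 ++ v2) ten = true := by decide +kernel
theorem uu13 : agree (u3 ++ u1) (u1 ++ u3) ten = true := by decide +kernel
theorem vv13 : agree (v3 ++ u1) (u1 ++ v3) ten = true := by decide +kernel
theorem uu14 : agree (u4 ++ u1) (u1 ++ u4) ten = true := by decide +kernel
theorem vv14 : agree (v4 ++ u1) (u1 ++ v4) ten = true := by decide +kernel
theorem uu23 : agree (u3 ++ u2) (u2 ++ u3) ten = true := by decide +kernel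
theorem vv23 : agree (v3 ++ u2) (u2 ++ v3) ten = true := by decide +kernel
theorem uu24 : agree (u4 ++ u2) (u2 ++ u4) ten = true := by decide +kernel
theorem vv24 : agree (v4 ++ u2) (u2 ++ v4) ten = true := by decide +kernel
theorem uu34 : agree (u4 ++ u3) (u3 ++ u4) ten = true := by decide +kernel
theorem vv34 : agree (v4 ++ u3) (u3 ++ v4) ten = true := by decide +kernel

theorem eq2 {a b c d : List Lt} (h : agree (a ++ b) (c ++ d) ten = true) : elw a * elw b = elw c * elw d := by
  rw [← elw_append, ← elw_append]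
  exact elw_eq_of_agree h

theorem eq3 {a b c d e : List Lt} (h : agree (a ++ b) (c ++ (d ++ e)) ten = true) :
    elw a * elw b = elw c * (elw d * elw e) := by
  rw [← elw_append, ← elw_append, ← elw_append]
  exact elw_eq_of_agree h

theorem cube {a : List Lt} (h : agree (a ++ (a ++ a)) [] ten = true) : elw a * elw a * elw a = 1 := by
  rw [mul_assoc, ← elw_append, ← elw_append, elw_eq_of_agree h, elw_nil]

/-- **the tower `3^(1+8)`** -/
theorem tw : Tw (elw zc) [(elw u1, elw v1), (elw u2, elw v2), (elw u3, elw v3), (elw u4, elw v4)] where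
  z3 := cube z_cube
  u3 := by
    intro p hp
    simp only [List.mem_cons, List.not_mem_nil, or_false] at hp
    rcases hp with rfl | rfl | rfl | rfl
    · exact cube u_cube1
    · exact cube u_cube2
    · exact cube u_cube3
    · exact cube u_cube4
  uz := by
    intro p hp
    simp only [List.mem_cons, List.not_mem_nil, or_false] at hp
    rcases hp with rfl | rfl | rfl | rfl
    · exact eq2 uz1
    · exact eq2 uz2
    · exact eq2 uz3
    · exact eq2 uz4
  vz := by
    intro p hp
    simp only [List.mem_cons, List.not_mem_nil, or_false] at hp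
    rcases hp with rfl | rfl | rfl | rfl
    · exact eq2 vz1
    · exact eq2 vz2
    · exact eq2 vz3
    · exact eq2 vz4
  vu := by
    intro p hp
    simp only [List.mem_cons, List.not_mem_nil, or_false] at hp
    rcases hp with rfl | rfl | rfl | rfl
    · exact eq3 vu1
    · exact eq3 vu2
    · exact eq3 vu3
    · exact eq3 vu4
  pw := by
    refine List.Pairwise.cons ?_ (List.Pairwise.cons ?_ (List.Pairwise.cons ?_ (List.Pairwise.cons ?_ List.Pairwise.nil)))
    · intro q hq
      simp only [List.mem_cons, List.not_mem_nil, or_false] at hq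
      rcases hq with rfl | rfl | rfl
      · exact ⟨eq2 uu12, eq2 vv12⟩
      · exact ⟨eq2 uu13, eq2 vv13⟩
      · exact ⟨eq2 uu14, eq2 vv14⟩
    · intro q hq
      simp only [List.mem_cons, List.not_mem_nil, or_false] at hq
      rcases hq with rfl | rfl
      · exact ⟨eq2 uu23, eq2 vv23⟩
      · exact ⟨eq2 uu24, eq2 vv24⟩
    · intro q hq
      simp only [List.mem_cons, List.not_mem_nil, or_false] at hq
      rcases hq with rfl
      exact ⟨eq2 uu34, eq2 vv34⟩
    · intro q hq
      exact absurd hq (by simp)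

/-! ### The subgroup `2^11:23` -/

/-- an element of order 23 -/
def y : List Lt := [.d, .e, .g, .d, .c, .j, .d, .i, .b, .a, .h, .j, .a, .f, .c, .e, .i, .d, .j, .h, .d, .a, .d, .b, .f]
/-- a transposition -/
def t : List Lt := [.i, .h, .f, .e, .d, .c, .d, .e, .f, .h, .i]

theorem y_pow : agree (wrep y 23) [] ten = true := by decide +kernel
theorem ty_pow : agree (wrep (t ++ y) 23) [] ten = true := by decide +kernel
theorem t_pt : Nat.beq (ptw [.i, .h, .f, .e, .d] 8003) 2522 = true := by decide +kernel

/-- the orbit of the point of `t` -/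
def pts : List ℕ := [2522, 1045, 1797, 2755, 18561, 10717, 17122, 17177, 14946, 18175, 19263, 7891, 12631, 12204, 22066, 4722, 6070, 11064, 7340, 3255, 4601, 7168, 1049]

/-- consecutive points -/
noncomputable def chkP : ℕ → List ℕ → Bool
  | _, [] => true
  | p, q :: l => and (and (Nat.beq (ptw y p) q) (Nat.beq (ptw t q) q)) (chkP q l)

theorem pts_chk : chkP 2522 [1045, 1797, 2755, 18561, 10717, 17122, 17177, 14946, 18175, 19263, 7891, 12631, 12204, 22066, 4722, 6070, 11064, 7340, 3255, 4601, 7168, 1049, 2522] = true := by decide +kernel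

end Cfsg.Agent.H30.S8.Fi23
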